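import Groth.Agent.EtCore45.ExtAdjoint
import Groth.Agent.EtCore45.MVExt
import Groth.Agent.Henz21.EtAcyc.Comp
import Groth.Prelude.Def_EtCore

/-!
The base change map and the counits of a commutative square.
-/

set_option autoImplicit false
set_option backward.isDefEq.respectTransparency.types false
universe u

open CategoryTheory CategoryTheory.Limits AlgebraicGeometry Opposite CategoryTheory.Abelian

namespace Groth.Agent.Comp51

variable {X X' Y Y' : Scheme.{u}}

theorem pushCongr_rfl_app {A B : Scheme.{u}} (f : A ⟶ B) (G : EtCoh.Ab A) :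
    (EtCoh.pushCongr (rfl : f = f)).hom.app G = 𝟙 _ := by
  refine ObjectProperty.hom_ext _ (NatTrans.ext (funext fun U => ?_))
  have e : (MorphismProperty.Over.pullbackCongr (P := EtCoh.etaleMP) (Q := ⊤) (rfl : f = f)).inv.app U.unop =
      𝟙 ((MorphismProperty.Over.pullback EtCoh.etaleMP ⊤ f).obj U.unop) := by
    ext : 1
    show (pullback.congrHom rfl rfl).inv = 𝟙 _
    apply pullback.hom_ext <;> simp
  show G.obj.map ((MorphismProperty.Over.pullbackCongr (P := EtCoh.etaleMP) (Q := ⊤) (rfl : f = f)).inv.app U.unop).op = _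
  rw [e]
  exact G.obj.map_id _

theorem homEquiv_pullCongr {A B : Scheme.{u}} {f f' : A ⟶ B} (e : f = f') (M : EtCoh.Ab B) (G : EtCoh.Ab A)
    (x : (EtCoh.pull f').obj M ⟶ G) :
    (EtCoh.pullPushAdj f).homEquiv M G ((EtCore.pullCongr e).hom.app M ≫ x) ≫ (EtCoh.pushCongr e).hom.app G =
      (EtCoh.pullPushAdj f').homEquiv M G x := by
  subst e
  rw [pushCongr_rfl_app, Category.comp_id]
  simp [EtCore.pullCongr]

/-- The counit of `p` and the base change map. -/
theorem pullComp_counit (p : X' ⟶ X) (h : Y ⟶ X) (p' : Y' ⟶ Y) (h' : Y' ⟶ X') (w : h' ≫ p = p' ≫ h)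
    (C : EtCoh.Ab X') :
    (EtCore.pullComp h' p).hom.app ((EtCoh.push p).obj C) ≫
        (EtCoh.pull h').map ((EtCoh.pullPushAdj p).counit.app C) =
      (EtCore.pullCongr w).hom.app _ ≫ (EtCore.pullComp p' h).hom.app ((EtCoh.push p).obj C) ≫
        (EtCoh.pull p').map (EtCoh.baseChange0 p h p' h' w C) ≫
          (EtCoh.pullPushAdj p').counit.app ((EtCoh.pull h').obj C) := by
  let adj := EtCoh.pullPushAdj (h' ≫ p)
  apply (adj.homEquiv _ _).injective
  apply (cancel_mono ((EtCoh.pushCongr w).hom.app _)).1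
  refine Eq.trans ?_ (homEquiv_pullCongr w _ _ _).symm
  have step : ∀ {A B D : Scheme.{u}} (f : A ⟶ B) (g : B ⟶ D) (M : EtCoh.Ab D) (G : EtCoh.Ab A)
      (x : (EtCoh.pull f).obj ((EtCoh.pull g).obj M) ⟶ G),
      (EtCoh.pullPushAdj (f ≫ g)).homEquiv M G ((EtCore.pullComp f g).hom.app M ≫ x) =
        (EtCoh.pullPushAdj g).homEquiv _ _ ((EtCoh.pullPushAdj f).homEquiv _ _ x) ≫
          (EtCoh.pushComp g f).hom.app G := by
    intro A B D f g M G x
    rw [Adjunction.homEquiv_naturality_right]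
    rw [EtCore.pullComp, Adjunction.homEquiv_leftAdjointUniq_hom_app]
    simp [Adjunction.ofNatIsoRight, Adjunction.comp_unit_app, Adjunction.homEquiv_unit]
    exact congrArg (_ ≫ ·) (congrArg (_ ≫ ·) ((EtCoh.pushComp g f).hom.naturality x).symm)
  rw [step h' p, step p' h]
  have e1 : (EtCoh.pullPushAdj h').homEquiv _ _ ((EtCoh.pull h').map ((EtCoh.pullPushAdj p).counit.app C)) =
      (EtCoh.pullPushAdj p).counit.app C ≫ (EtCoh.pullPushAdj h').unit.app C := by
    rw [Adjunction.homEquiv_unit]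
    exact ((EtCoh.pullPushAdj h').unit.naturality _).symm
  have e2 : (EtCoh.pullPushAdj p).homEquiv _ _ ((EtCoh.pullPushAdj p).counit.app C ≫ (EtCoh.pullPushAdj h').unit.app C) =
      (EtCoh.push p).map ((EtCoh.pullPushAdj h').unit.app C) := by
    rw [Adjunction.homEquiv_naturality_right]
    exact (congrArg (· ≫ _) ((Adjunction.homEquiv_unit _ _ _ _).trans
      ((EtCoh.pullPushAdj p).right_triangle_components C))).trans (Category.id_comp _)
  have e3 : (EtCoh.pullPushAdj p').homEquiv _ _ ((EtCoh.pull p').map (EtCoh.baseChange0 p h p' h' w C) ≫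
      (EtCoh.pullPushAdj p').counit.app ((EtCoh.pull h').obj C)) = EtCoh.baseChange0 p h p' h' w C := by
    rw [Adjunction.homEquiv_naturality_left]
    exact (congrArg (_ ≫ ·) ((Adjunction.homEquiv_unit _ _ _ _).trans
      ((EtCoh.pullPushAdj p').right_triangle_components _))).trans (Category.comp_id _)
  refine Eq.trans (congrArg (fun z => ((EtCoh.pullPushAdj p).homEquiv _ _ z ≫ _) ≫ _) e1) ?_
  refine Eq.trans (congrArg (fun z => (z ≫ _) ≫ _) e2) ?_
  refine Eq.trans ?_ (congrArg (fun z => (EtCoh.pullPushAdj h).homEquiv _ _ z ≫ _) e3).symm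
  refine Eq.trans ?_ (congrArg (· ≫ _) (((EtCoh.pullPushAdj h).homEquiv _ _).apply_symm_apply _).symm)
  simp only [Category.assoc]
  refine congrArg (_ ≫ ·) (congrArg (_ ≫ ·) ?_)
  exact ((congrArg (_ ≫ ·) ((EtCoh.pushComp h p').inv_hom_id_app _)).trans (Category.comp_id _)).symm

end Groth.Agent.Comp51
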