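import Groth.Agent.Cons51.Embed
import Groth.Agent.Cons51.SectFinEt
import Groth.Agent.Cons51.Present
import Groth.Agent.Depth22.TorsTools
import Groth.Prelude.Def_FinFr
import Mathlib.GroupTheory.FiniteAbelian.Basic

/-!
Sheaves killed by a prime power inside direct images of constant prime power sheaves.
-/

set_option autoImplicit false
set_option backward.isDefEq.respectTransparency.types false
universe u

open CategoryTheory CategoryTheory.Limits AlgebraicGeometry Opposite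

namespace Groth.Agent.Comp51

variable {X : Scheme.{u}}

theorem comp_eq_zero_of_coprime {A B : EtCoh.Ab X} (c : A ⟶ B) {a b : ℕ} (hab : Nat.Coprime a b)
    (hA : a • 𝟙 A = 0) (hB : b • 𝟙 B = 0) : c = 0 := by
  have h1 : a • c = 0 := by rw [← Category.id_comp c, ← Preadditive.nsmul_comp, hA, zero_comp]
  have h2 : b • c = 0 := by rw [← Category.comp_id c, ← Preadditive.comp_nsmul, hB, comp_zero]
  exact AddMonoid.addOrderOf_eq_one_iff.1 (Nat.dvd_one.1 (hab ▸ Nat.dvd_gcd
    (addOrderOf_dvd_iff_nsmul_eq_zero.2 h1) (addOrderOf_dvd_iff_nsmul_eq_zero.2 h2)))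

theorem isLTorsion_of_killedBy {ℓ : ℕ} (hℓ : ℓ.Prime) {k : ℕ} {F : EtCoh.Ab X} (h : EtCoh.KilledBy (ℓ ^ k) F) :
    EtAcyc.IsLTorsion {ℓ} F := fun U s x =>
  ⟨U, 𝟙 U, ℓ ^ k, ⟨x, rfl⟩, Depth22.primesIn_pow hℓ k, by
    rw [← map_nsmul, h U s, map_zero]⟩

/-- The map of constant sheaves given by a homomorphism of groups. -/
noncomputable def constMap (Y : Scheme.{u}) {M N : Type} [AddCommGroup M] [AddCommGroup N] (f : M →+ N) :
    EtCoh.const Y M ⟶ EtCoh.const Y N :=
  (constantSheaf Y.smallEtaleTopology AddCommGrpCat.{u + 1}).map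
    (AddCommGrpCat.ofHom ((AddEquiv.ulift.symm.toAddMonoidHom.comp f).comp AddEquiv.ulift.toAddMonoidHom))

theorem constMap_comp (Y : Scheme.{u}) {M N P : Type} [AddCommGroup M] [AddCommGroup N] [AddCommGroup P]
    (f : M →+ N) (g : N →+ P) : constMap Y f ≫ constMap Y g = constMap Y (g.comp f) := by
  rw [constMap, constMap, ← Functor.map_comp]
  rfl

theorem sum_constMap (Y : Scheme.{u}) {M : Type} [AddCommGroup M] {ι : Type*} (s : Finset ι) (f : ι → (M →+ M))
    (h : ∑ i ∈ s, f i = AddMonoidHom.id M) : ∑ i ∈ s, constMap Y (f i) = 𝟙 (EtCoh.const Y M) := by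
  simp only [constMap, ← Functor.map_sum]
  refine Eq.trans (congrArg _ ?_) ((constantSheaf Y.smallEtaleTopology AddCommGrpCat.{u + 1}).map_id _)
  refine AddCommGrpCat.hom_ext (AddMonoidHom.ext fun x => ?_)
  let ev : (AddCommGrpCat.of (ULift.{u + 1} M) ⟶ AddCommGrpCat.of (ULift.{u + 1} M)) →+ ULift.{u + 1} M :=
    AddMonoidHom.mk' (fun g => g x) fun _ _ => rfl
  show ev _ = x
  rw [map_sum]
  show ((∑ i ∈ s, ULift.up (f i x.down)) : ULift.{u + 1} M) = x
  refine ULift.ext _ _ ?_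
  refine (map_sum (AddEquiv.ulift : ULift.{u + 1} M ≃+ M) _ s).trans ?_
  exact (AddMonoidHom.finsetSum_apply f s x.down).symm.trans (DFunLike.congr_fun h x.down)

theorem nsmul_id_const (Y : Scheme.{u}) (q : ℕ) : q • 𝟙 (EtCoh.const Y (ZMod q)) = 0 := by
  rw [← (constantSheaf Y.smallEtaleTopology AddCommGrpCat.{u + 1}).map_id, ← Functor.map_nsmul]
  refine Eq.trans (congrArg _ ?_) (Functor.map_zero _ _ _)
  refine AddCommGrpCat.hom_ext (AddMonoidHom.ext fun x => ?_)
  let ev : (AddCommGrpCat.of (ULift.{u + 1} (ZMod q)) ⟶ AddCommGrpCat.of (ULift.{u + 1} (ZMod q))) →+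
      ULift.{u + 1} (ZMod q) := AddMonoidHom.mk' (fun g => g x) fun _ _ => rfl
  show ev (q • 𝟙 _) = 0
  rw [map_nsmul]
  show q • x = 0
  exact ULift.ext _ _ (by simp)

theorem nsmul_id_push {Y : Scheme.{u}} (f : Y ⟶ X) (q : ℕ) :
    q • 𝟙 ((EtCoh.push f).obj (EtCoh.const Y (ZMod q))) = 0 := by
  have : (EtCoh.push f).Additive := (EtCoh.pullPushAdj f).right_adjoint_additive
  rw [← (EtCoh.push f).map_id, ← Functor.map_nsmul, nsmul_id_const, Functor.map_zero]

/-- A constructible sheaf killed by a power of a prime embeds into a sum of direct images of constant sheaves. -/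
theorem exists_special_embedding [CompactSpace X] [QuasiSeparatedSpace X] {ℓ : ℕ} (hℓ : ℓ.Prime)
    {F : EtCoh.Ab X} (hF : EtPBC.IsConstructible F) {a : ℕ} (ha : EtCoh.KilledBy (ℓ ^ a) F) :
    ∃ (N : ℕ) (Y : Fin N → Scheme.{u}) (f : ∀ i, Y i ⟶ X) (_ : ∀ i, IsFinite (f i)) (e : Fin N → ℕ)
      (ι : F ⟶ ⨁ fun i => (EtCoh.push (f i)).obj (EtCoh.const (Y i) (ZMod (ℓ ^ e i)))), Mono ι := by
  classical
  obtain ⟨n, Y, f, hf, -, M, _, _, ι, hι⟩ := Cons51.exists_embedding hF
  choose J hJ q hq m hm using fun k => AddCommGroup.equiv_directSum_zmod_of_finite (M k)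
  let eqv : ∀ k, M k ≃+ DirectSum (J k) (fun j => ZMod (q k j ^ m k j)) := fun k => (hm k).some
  let π : ∀ k j, M k →+ ZMod (q k j ^ m k j) := fun k j =>
    (DFinsupp.evalAddMonoidHom j).comp (eqv k).toAddMonoidHom
  let σ : ∀ k j, ZMod (q k j ^ m k j) →+ M k := fun k j =>
    (eqv k).symm.toAddMonoidHom.comp (DirectSum.of (fun j => ZMod (q k j ^ m k j)) j)
  have htot : ∀ k, ∑ j, (σ k j).comp (π k j) = AddMonoidHom.id (M k) := fun k => by
    refine AddMonoidHom.ext fun x => ?_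
    rw [AddMonoidHom.finsetSum_apply]
    show ∑ j, (eqv k).symm (DirectSum.of (fun j => ZMod (q k j ^ m k j)) j ((eqv k x) j)) = x
    rw [← map_sum, DirectSum.sum_univ_of, AddEquiv.symm_apply_apply]
  let S := {s : Σ k, J k // q s.1 s.2 = ℓ}
  let φ : Fin (Fintype.card S) ≃ S := (Fintype.equivFin S).symm
  let Y' : Fin (Fintype.card S) → Scheme.{u} := fun i => Y (φ i).1.1
  let e : Fin (Fintype.card S) → ℕ := fun i => m (φ i).1.1 (φ i).1.2
  have hadd : ∀ k, (EtCoh.push (f k)).Additive := fun k => (EtCoh.pullPushAdj (f k)).right_adjoint_additive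
  let c : ∀ k j, F ⟶ (EtCoh.push (f k)).obj (EtCoh.const (Y k) (ZMod (q k j ^ m k j))) := fun k j =>
    ι ≫ biproduct.π _ k ≫ (EtCoh.push (f k)).map (constMap (Y k) (π k j))
  have hc : ∀ k j, q k j ≠ ℓ → c k j = 0 := fun k j h =>
    comp_eq_zero_of_coprime _ (((Nat.coprime_primes hℓ (hq k j)).2 (Ne.symm h)).pow a (m k j))
      (Cons51.nsmul_id_eq_zero ha) (nsmul_id_push _ _)
  let ι' : F ⟶ ⨁ fun i => (EtCoh.push (f (φ i).1.1)).obj (EtCoh.const (Y' i) (ZMod (ℓ ^ e i))) :=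
    biproduct.lift fun i => c (φ i).1.1 (φ i).1.2 ≫ (EtCoh.push (f (φ i).1.1)).map
      (constMap _ (ZMod.ringEquivCongr (by rw [(φ i).2])).toAddEquiv.toAddMonoidHom)
  refine ⟨_, Y', fun i => f (φ i).1.1, fun i => hf _, e, ι', Preadditive.mono_of_cancel_zero _ fun {A} g hg => ?_⟩
  have hcj : ∀ k j, g ≫ c k j = 0 := by
    intro k j
    by_cases h : q k j = ℓ
    · obtain ⟨i, hi⟩ := φ.surjective ⟨⟨k, j⟩, h⟩
      have h1 : g ≫ c (φ i).1.1 (φ i).1.2 = 0 := by
        let w : ZMod (q (φ i).1.1 (φ i).1.2 ^ m (φ i).1.1 (φ i).1.2) ≃+ ZMod (ℓ ^ e i) :=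
          (ZMod.ringEquivCongr (by rw [(φ i).2])).toAddEquiv
        have hw : w.symm.toAddMonoidHom.comp w.toAddMonoidHom = AddMonoidHom.id _ :=
          AddMonoidHom.ext w.symm_apply_apply
        have hid : constMap (Y (φ i).1.1) (AddMonoidHom.id (ZMod (q (φ i).1.1 (φ i).1.2 ^ m (φ i).1.1 (φ i).1.2))) = 𝟙 _ :=
          (constantSheaf _ AddCommGrpCat.{u + 1}).map_id _
        have hlift : ι' ≫ biproduct.π (fun i => (EtCoh.push (f (φ i).1.1)).obj (EtCoh.const (Y' i) (ZMod (ℓ ^ e i)))) i =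
            c (φ i).1.1 (φ i).1.2 ≫ (EtCoh.push (f (φ i).1.1)).map (constMap _ w.toAddMonoidHom) :=
          biproduct.lift_π _ _
        have h2 : g ≫ c (φ i).1.1 (φ i).1.2 ≫ (EtCoh.push (f (φ i).1.1)).map (constMap _ w.toAddMonoidHom) = 0 := by
          refine (congrArg (g ≫ ·) hlift.symm).trans ?_
          rw [← Category.assoc, hg, zero_comp]
        have h3 := congrArg (fun z => z ≫ (EtCoh.push (f (φ i).1.1)).map (constMap _ w.symm.toAddMonoidHom)) h2
        simp only [Category.assoc, zero_comp, ← Functor.map_comp, constMap_comp] at h3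
        rw [hw, hid] at h3
        erw [(EtCoh.push (f (φ i).1.1)).map_id] at h3
        rw [Category.comp_id] at h3
        exact h3
      rw [hi] at h1
      exact h1
    · rw [hc k j h, comp_zero]
  refine (cancel_mono ι).1 ?_
  rw [zero_comp]
  refine biproduct.hom_ext _ _ fun k => ?_
  have hk : ∑ j, (EtCoh.push (f k)).map (constMap (Y k) (π k j)) ≫ (EtCoh.push (f k)).map (constMap (Y k) (σ k j)) =
      𝟙 _ := by
    simp only [← Functor.map_comp, constMap_comp]
    rw [← Functor.map_sum, sum_constMap _ _ _ (htot k)]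
    exact (EtCoh.push (f k)).map_id _
  rw [zero_comp, ← Category.comp_id ((g ≫ ι) ≫ biproduct.π _ k), ← hk, Preadditive.comp_sum]
  refine Finset.sum_eq_zero fun j _ => ?_
  have h4 : (g ≫ ι) ≫ biproduct.π _ k ≫ (EtCoh.push (f k)).map (constMap (Y k) (π k j)) = 0 :=
    (Category.assoc _ _ _).trans (hcj k j)
  simp only [Category.assoc] at h4 ⊢
  rw [reassoc_of% h4, zero_comp]

end Groth.Agent.Comp51
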