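import Groth.Agent.Comp51.FinitePush
import Groth.Agent.Comp51.Decomp
import Groth.Agent.Cons51.TorsionInj
import Groth.Agent.EtTor93.Hpull

/-!
Comparison of cohomology from finite schemes with constant coefficients.
-/

set_option autoImplicit false
set_option backward.isDefEq.respectTransparency.types false
set_option linter.style.haveILetI false
universe u

open CategoryTheory CategoryTheory.Limits AlgebraicGeometry Opposite CategoryTheory.Abelian
open Groth.Agent.Unr55.EtSh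

namespace Groth.Agent.Comp51

variable {X Y : Scheme.{u}}

theorem eq_zero_of_comp_mono_zero {F G : EtCoh.Ab X} (v : F ⟶ G) [Mono v] (x : EtCoh.H X F 0)
    (hx : x.comp (Ext.mk₀ v) (add_zero 0) = 0) : x = 0 := by
  obtain ⟨g, rfl⟩ := (Ext.mk₀_bijective _ _).2 x
  have h1 : g ≫ v = 0 := (Ext.mk₀_bijective _ _).1 ((Ext.mk₀_comp_mk₀ g v).symm.trans (hx.trans (Ext.mk₀_zero _ _).symm))
  rw [(cancel_mono v).1 (h1.trans (zero_comp (f := v)).symm), Ext.mk₀_zero]

theorem sum_comp_mk₀ {F : EtCoh.Ab X} {ι : Type} (s : Finset ι) (g : ι → (F ⟶ F)) (q : ℕ) (x : EtCoh.H X F q)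
    (h : ∑ k ∈ s, g k = 𝟙 F) : ∑ k ∈ s, x.comp (Ext.mk₀ (g k)) (add_zero q) = x := by
  let ev : (F ⟶ F) →+ EtCoh.H X F q :=
    AddMonoidHom.mk' (fun f => x.comp (Ext.mk₀ f) (add_zero q)) fun f f' => by rw [Ext.mk₀_add, Ext.comp_add]
  show ∑ k ∈ s, ev (g k) = x
  rw [← map_sum, h]
  exact Ext.comp_mk₀_id x

variable (h : Y ⟶ X) (ℓ : ℕ) (n : ℕ) [PreservesFiniteLimits (EtCoh.pull h)]

/-- Injectivity in degree zero and surjectivity up to `n` for constant coefficients on finite schemes. -/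
def Base : Prop :=
  ∀ (X' : Scheme.{u}) (p : X' ⟶ X) [IsFinite p] [PreservesFiniteLimits (EtCoh.pull (pullback.fst p h))] (ν : ℕ),
    Function.Injective (EtCore.Hpull (pullback.fst p h) (EtCoh.const X' (ZMod (ℓ ^ ν))) 0) ∧
    ∀ i ≤ n, Function.Surjective (EtCore.Hpull (pullback.fst p h) (EtCoh.const X' (ZMod (ℓ ^ ν))) i)

def Inj (i : ℕ) : Prop :=
  ∀ F : EtCoh.Ab X, EtAcyc.IsLTorsion {ℓ} F → Function.Injective (EtCore.Hpull h F i)

def Surj (i : ℕ) : Prop :=
  ∀ F : EtCoh.Ab X, EtAcyc.IsLTorsion {ℓ} F → Function.Surjective (EtCore.Hpull h F i)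

variable {h ℓ n}

theorem push_facts (hb : Base h ℓ n) {X' : Scheme.{u}} (p : X' ⟶ X) [IsFinite p] (ν : ℕ) :
    Function.Injective (EtCore.Hpull h ((EtCoh.push p).obj (EtCoh.const X' (ZMod (ℓ ^ ν)))) 0) ∧
    ∀ i ≤ n, Function.Surjective (EtCore.Hpull h ((EtCoh.push p).obj (EtCoh.const X' (ZMod (ℓ ^ ν)))) i) := by
  have := Unr55.EtSh.preservesFiniteLimits_pull (pullback.fst p h)
  obtain ⟨h0, hs⟩ := hb X' p ν
  constructor
  · obtain ⟨Φ, Ψ, hΦ, hΨ, e⟩ := exists_Hpull_push p h (pullback.snd p h) (pullback.fst p h)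
      (IsPullback.of_hasPullback p h) (EtCoh.const X' (ZMod (ℓ ^ ν))) 0
    exact fun x y hxy => hΦ.1 (h0 (by rw [e, e, hxy]))
  · intro i hi y
    obtain ⟨Φ, Ψ, hΦ, hΨ, e⟩ := exists_Hpull_push p h (pullback.snd p h) (pullback.fst p h)
      (IsPullback.of_hasPullback p h) (EtCoh.const X' (ZMod (ℓ ^ ν))) i
    obtain ⟨z, hz⟩ := hs i hi (Ψ y)
    obtain ⟨x, rfl⟩ := hΦ.2 z
    exact ⟨x, hΨ.1 ((e x).symm.trans hz)⟩

theorem special_facts (hb : Base h ℓ n) {N : ℕ} (Y' : Fin N → Scheme.{u}) (f : ∀ i, Y' i ⟶ X)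
    (hf : ∀ i, IsFinite (f i)) (e : Fin N → ℕ) :
    Function.Injective (EtCore.Hpull h (⨁ fun i => (EtCoh.push (f i)).obj (EtCoh.const (Y' i) (ZMod (ℓ ^ e i)))) 0) ∧
    ∀ i ≤ n, Function.Surjective
      (EtCore.Hpull h (⨁ fun i => (EtCoh.push (f i)).obj (EtCoh.const (Y' i) (ZMod (ℓ ^ e i)))) i) := by
  let C : Fin N → EtCoh.Ab X := fun i => (EtCoh.push (f i)).obj (EtCoh.const (Y' i) (ZMod (ℓ ^ e i)))
  constructor
  · refine (injective_iff_map_eq_zero _).2 fun x hx => ?_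
    rw [← sum_comp_mk₀ Finset.univ (fun k => biproduct.π C k ≫ biproduct.ι C k) 0 x biproduct.total]
    refine Finset.sum_eq_zero fun k _ => ?_
    have hk : x.comp (Ext.mk₀ (biproduct.π C k)) (add_zero 0) = 0 := by
      refine (have := hf k; (push_facts hb (f k) (e k)).1) ?_
      rw [map_zero]
      refine (GalCoh84.Hpull_naturality h _ 0 x).trans ?_
      erw [hx]
      exact Ext.zero_comp _ _ _ _ _
    rw [← Ext.mk₀_comp_mk₀, ← Ext.comp_assoc_of_third_deg_zero, hk]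
    exact Ext.zero_comp _ _ _ _ _
  · intro i hi y
    have hs : ∀ k, ∃ x : EtCoh.H X (C k) i,
        EtCore.Hpull h (C k) i x = y.comp (Ext.mk₀ ((EtCoh.pull h).map (biproduct.π C k))) (add_zero i) :=
      fun k => (have := hf k; (push_facts hb (f k) (e k)).2 i hi) _
    choose x hx using hs
    refine ⟨∑ k, (x k).comp (Ext.mk₀ (biproduct.ι C k)) (add_zero i), ?_⟩
    rw [map_sum]
    have ht : ∑ k, (EtCoh.pull h).map (biproduct.π C k) ≫ (EtCoh.pull h).map (biproduct.ι C k) =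
        𝟙 ((EtCoh.pull h).obj (⨁ C)) := by
      simp only [← Functor.map_comp, ← Functor.map_sum]
      exact (congrArg _ biproduct.total).trans ((EtCoh.pull h).map_id _)
    refine Eq.trans (Finset.sum_congr rfl fun k _ => ?_) (sum_comp_mk₀ (X := Y) Finset.univ _ i y ht)
    refine (GalCoh84.Hpull_naturality h _ i (x k)).trans ?_
    rw [hx k, Ext.comp_assoc_of_third_deg_zero, Ext.mk₀_comp_mk₀]

theorem exists_pow_killedBy [CompactSpace X] [QuasiSeparatedSpace X] (hℓ : ℓ.Prime) {F : EtCoh.Ab X}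
    (hFc : EtPBC.IsConstructible F) (hF : EtAcyc.IsLTorsion {ℓ} F) : ∃ a, EtCoh.KilledBy (ℓ ^ a) F := by
  obtain ⟨N, hN, hk⟩ := Cons51.exists_killedBy hFc
  obtain ⟨a, m, hm, rfl⟩ := Nat.exists_eq_pow_mul_and_not_dvd hN.ne' ℓ hℓ.ne_one
  refine ⟨a, fun U s => sect_eq_zero_of_germ F _ fun K _ _ η t => ?_⟩
  rw [map_nsmul]
  obtain ⟨c, hc, hs⟩ := EtTor93.stalk_torsion hF η (germ η F t s)
  obtain ⟨k, rfl⟩ := Depth22.primesIn_singleton hc
  have h1 : (ℓ ^ a * m) • germ η F t s = 0 := by rw [← map_nsmul, hk U s, map_zero]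
  refine addOrderOf_dvd_iff_nsmul_eq_zero.1 ?_
  have h2 : addOrderOf (germ η F t s) ∣ ℓ ^ k := addOrderOf_dvd_iff_nsmul_eq_zero.2 hs
  have h3 : Nat.Coprime (addOrderOf (germ η F t s)) m :=
    Nat.Coprime.coprime_dvd_left h2 (((hℓ.coprime_iff_not_dvd).2 hm).pow_left k)
  exact h3.dvd_of_dvd_mul_right (addOrderOf_dvd_iff_nsmul_eq_zero.2 h1)

section Colimit

variable [CompactSpace X] [QuasiSeparatedSpace X] [CompactSpace Y] [QuasiSeparatedSpace Y]

theorem inj_of_constructible {i : ℕ}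
    (hc : ∀ F : EtCoh.Ab X, EtPBC.IsConstructible F → EtAcyc.IsLTorsion {ℓ} F →
      Function.Injective (EtCore.Hpull h F i)) : Inj h ℓ i := by
  intro F hF
  obtain ⟨J, _, _, D, c, hcl, ⟨e⟩, hD⟩ := Cons51.exists_isColimit (Depth22.generating_lTorsion hF)
  have := Unr55.HColim.preservesColimitsOfShape_HF (X := X) J i
  have := Unr55.HColim.preservesColimitsOfShape_HF (X := Y) J i
  have : PreservesColimitsOfShape J (EtCoh.pull h) :=
    (EtCoh.pullPushAdj h).leftAdjoint_preservesColimits.preservesColimitsOfShape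
  refine (injective_iff_map_eq_zero _).2 fun x hx => ?_
  let hX := isColimitOfPreserves (EtCoh.HF X i) hcl
  let hY := isColimitOfPreserves (EtCoh.HF Y i) (isColimitOfPreserves (EtCoh.pull h) hcl)
  obtain ⟨j, w, hw⟩ := Concrete.isColimit_exists_rep _ hX ((EtCoh.HF X i).map e.inv x)
  have hx' : x = (EtCoh.HF X i).map (c.ι.app j ≫ e.hom) w := by
    rw [Functor.map_comp, ConcreteCategory.comp_apply]
    erw [hw]
    rw [← ConcreteCategory.comp_apply, ← Functor.map_comp, e.inv_hom_id, CategoryTheory.Functor.map_id]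
    rfl
  have hzero : (EtCoh.HF Y i).map ((EtCoh.pull h).map (c.ι.app j)) (EtCore.Hpull h (D.obj j) i w) = 0 := by
    have h1 : (EtCoh.HF Y i).map ((EtCoh.pull h).map (c.ι.app j ≫ e.hom)) (EtCore.Hpull h (D.obj j) i w) = 0 := by
      refine (GalCoh84.Hpull_naturality h (c.ι.app j ≫ e.hom) i w).symm.trans ?_
      exact (congrArg (EtCore.Hpull h F i) hx'.symm).trans hx
    have h2 := congrArg ((EtCoh.HF Y i).map ((EtCoh.pull h).map e.inv)) h1
    rw [← ConcreteCategory.comp_apply, ← Functor.map_comp, ← Functor.map_comp, Category.assoc, e.hom_inv_id,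
      map_zero] at h2
    have e0 : c.ι.app j ≫ 𝟙 c.pt = c.ι.app j := Category.comp_id (c.ι.app j)
    exact (congrArg (fun z => (EtCoh.HF Y i).map ((EtCoh.pull h).map z) _) e0).symm.trans h2
  obtain ⟨k, g, g', hgg⟩ := Concrete.isColimit_exists_of_rep_eq _ hY (EtCore.Hpull h (D.obj j) i w)
    (0 : EtCoh.H Y ((EtCoh.pull h).obj (D.obj j)) i) (hzero.trans (map_zero _).symm)
  have hk : EtCore.Hpull h (D.obj k) i ((EtCoh.HF X i).map (D.map g) w) = 0 := by
    refine (GalCoh84.Hpull_naturality h (D.map g) i w).trans ?_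
    exact hgg.trans (map_zero _)
  have hk' := (injective_iff_map_eq_zero _).1 (hc _ (hD k).1 (hD k).2) _ hk
  rw [hx', ← c.w g, Category.assoc, Functor.map_comp, ConcreteCategory.comp_apply]
  erw [hk']
  exact map_zero _

theorem surj_of_constructible {i : ℕ}
    (hc : ∀ F : EtCoh.Ab X, EtPBC.IsConstructible F → EtAcyc.IsLTorsion {ℓ} F →
      Function.Surjective (EtCore.Hpull h F i)) : Surj h ℓ i := by
  intro F hF y
  obtain ⟨J, _, _, D, c, hcl, ⟨e⟩, hD⟩ := Cons51.exists_isColimit (Depth22.generating_lTorsion hF)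
  have := Unr55.HColim.preservesColimitsOfShape_HF (X := Y) J i
  have : PreservesColimitsOfShape J (EtCoh.pull h) :=
    (EtCoh.pullPushAdj h).leftAdjoint_preservesColimits.preservesColimitsOfShape
  let hY := isColimitOfPreserves (EtCoh.HF Y i) (isColimitOfPreserves (EtCoh.pull h) hcl)
  obtain ⟨j, w, hw⟩ := Concrete.isColimit_exists_rep _ hY ((EtCoh.HF Y i).map ((EtCoh.pull h).map e.inv) y)
  obtain ⟨x, rfl⟩ := hc _ (hD j).1 (hD j).2 w
  refine ⟨(EtCoh.HF X i).map (c.ι.app j ≫ e.hom) x, ?_⟩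
  refine (GalCoh84.Hpull_naturality h (c.ι.app j ≫ e.hom) i x).trans ?_
  show (EtCoh.HF Y i).map ((EtCoh.pull h).map (c.ι.app j ≫ e.hom)) (EtCore.Hpull h (D.obj j) i x) = y
  rw [Functor.map_comp, Functor.map_comp, ConcreteCategory.comp_apply]
  erw [hw]
  rw [← ConcreteCategory.comp_apply, ← Functor.map_comp, ← Functor.map_comp, e.inv_hom_id,
    CategoryTheory.Functor.map_id, CategoryTheory.Functor.map_id]
  rfl

end Colimit

variable [CompactSpace X] [QuasiSeparatedSpace X] [CompactSpace Y] [QuasiSeparatedSpace Y]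
variable (hℓ : ℓ.Prime) (hb : Base h ℓ n)

include hℓ hb

theorem inj_zero : Inj h ℓ 0 := by
  refine inj_of_constructible fun F hFc hF => (injective_iff_map_eq_zero _).2 fun x hx => ?_
  obtain ⟨a, ha⟩ := exists_pow_killedBy hℓ hFc hF
  obtain ⟨N, Y', f, hf, e, ι, hι⟩ := exists_special_embedding hℓ hFc ha
  refine eq_zero_of_comp_mono_zero ι x ((special_facts hb Y' f hf e).1 ?_)
  rw [map_zero]
  refine (GalCoh84.Hpull_naturality h ι 0 x).trans ?_
  erw [hx]
  exact Ext.zero_comp _ _ _ _ _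

theorem surj_step {i : ℕ} (hi : i ≤ n) (hinj : Inj h ℓ i) (hprev : ∀ j, j + 1 = i → Surj h ℓ j) :
    Surj h ℓ i := by
  refine surj_of_constructible fun F hFc hF y => ?_
  obtain ⟨a, ha⟩ := exists_pow_killedBy hℓ hFc hF
  obtain ⟨N, Y', f, hf, e, ι, hι⟩ := exists_special_embedding hℓ hFc ha
  let G : EtCoh.Ab X := ⨁ fun i => (EtCoh.push (f i)).obj (EtCoh.const (Y' i) (ZMod (ℓ ^ e i)))
  have hG : EtAcyc.IsLTorsion {ℓ} G := by
    refine isLTorsion_of_killedBy hℓ (k := ∑ k, e k) (Cons51.killedBy_of_nsmul ?_)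
    refine biproduct.hom_ext _ _ fun k => ?_
    rw [Preadditive.nsmul_comp, Category.id_comp, ← Category.comp_id (biproduct.π _ k), ← Preadditive.comp_nsmul,
      zero_comp]
    obtain ⟨c, hc⟩ := pow_dvd_pow ℓ (Finset.single_le_sum (fun j _ => Nat.zero_le (e j)) (Finset.mem_univ k))
    rw [hc, mul_comm, mul_nsmul', nsmul_id_push, smul_zero, comp_zero]
  let S : ShortComplex (EtCoh.Ab X) := ShortComplex.mk ι (cokernel.π ι) (cokernel.condition ι)
  have hS : S.ShortExact := ShortComplex.ShortExact.mk' (ShortComplex.exact_cokernel _) hι inferInstance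
  have hQ : EtAcyc.IsLTorsion {ℓ} S.X₃ := EtTor93.isLTorsion_of_epi (cokernel.π ι) hG
  obtain ⟨b, hb'⟩ := (special_facts hb Y' f hf e).2 i hi (y.comp (Ext.mk₀ ((EtCoh.pull h).map ι)) (add_zero i))
  have hb0 : b.comp (Ext.mk₀ S.g) (add_zero i) = 0 := by
    refine hinj _ hQ ((GalCoh84.Hpull_naturality h S.g i b).trans (Eq.trans ?_ (map_zero _).symm))
    refine (congrArg (fun z => Ext.comp z (Ext.mk₀ ((EtCoh.pull h).map S.g)) (add_zero i)) hb').trans ?_
    refine (Ext.comp_assoc_of_third_deg_zero _ _ _ _).trans ?_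
    rw [Ext.mk₀_comp_mk₀, ← Functor.map_comp, S.zero, Functor.map_zero, Ext.mk₀_zero, Ext.comp_zero]
  obtain ⟨x, hx⟩ := Ext.covariant_sequence_exact₂ _ hS b hb0
  have hd : (y + -EtCore.Hpull h F i x).comp (Ext.mk₀ ((EtCoh.pull h).map ι)) (add_zero i) = 0 := by
    have he : (EtCore.Hpull h F i x).comp (Ext.mk₀ ((EtCoh.pull h).map ι)) (add_zero i) =
        EtCore.Hpull h _ i b := (GalCoh84.Hpull_naturality h ι i x).symm.trans (congrArg (EtCore.Hpull h _ i) hx)
    rw [Ext.add_comp, Ext.neg_comp]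
    exact (congrArg₂ (fun u v => u + -v) hb'.symm he).trans (add_neg_cancel _)
  cases i with
  | zero =>
    have : Mono ι := hι
    refine ⟨x, ?_⟩
    have h0 := eq_zero_of_comp_mono_zero (X := Y) ((EtCoh.pull h).map ι) _ hd
    exact (add_neg_eq_zero.1 h0).symm
  | succ i =>
    obtain ⟨c, hc'⟩ := Ext.covariant_sequence_exact₁ _ (hS.map_of_exact (EtCoh.pull h)) _ hd (n₀ := i) rfl
    obtain ⟨c, rfl⟩ := hprev i rfl _ hQ c
    refine ⟨x + c.comp hS.extClass rfl, ?_⟩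
    refine (map_add _ _ _).trans ?_
    refine (congrArg (EtCore.Hpull h F (i + 1) x + ·) ((GalCoh84.Hpull_extClass h hS rfl c).trans hc')).trans ?_
    exact (add_comm _ _).trans (neg_add_cancel_right _ _)

omit hb in
theorem inj_step {i : ℕ} (hinj : Inj h ℓ i) (hsurj : Surj h ℓ i) : Inj h ℓ (i + 1) := by
  refine inj_of_constructible fun F hFc hF => (injective_iff_map_eq_zero _).2 fun x hx => ?_
  obtain ⟨a, ha⟩ := exists_pow_killedBy hℓ hFc hF
  obtain ⟨G, v, hGc, hv, hvx⟩ := Cons51.exists_constructible_effacement hFc (Nat.le_add_left 1 i) x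
  obtain ⟨N, hN, hk⟩ := Cons51.exists_killedBy hGc
  obtain ⟨b, m, hm, rfl⟩ := Nat.exists_eq_pow_mul_and_not_dvd hN.ne' ℓ hℓ.ne_one
  obtain ⟨ε, hε1, hε0⟩ := Nat.chineseRemainder (((hℓ.coprime_iff_not_dvd).2 hm).pow_left a) 1 0
  let φ : G ⟶ G := ε • 𝟙 G
  let E := Abelian.image φ
  have hE : EtAcyc.IsLTorsion {ℓ} E := by
    refine isLTorsion_of_killedBy hℓ (k := b) (Cons51.killedBy_of_nsmul ?_)
    apply (cancel_epi (Abelian.factorThruImage φ)).1
    apply (cancel_mono (Abelian.image.ι φ)).1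
    simp only [Preadditive.comp_nsmul, Preadditive.nsmul_comp, comp_zero, zero_comp]
    have e0 : (Abelian.factorThruImage φ ≫ 𝟙 E) ≫ Abelian.image.ι φ = φ :=
      (congrArg (· ≫ _) (Category.comp_id _)).trans (Abelian.image.fac φ)
    rw [e0]
    show ℓ ^ b • ε • 𝟙 G = 0
    obtain ⟨t, rfl⟩ := Nat.modEq_zero_iff_dvd.1 hε0
    rw [← mul_nsmul', ← mul_assoc, mul_comm (ℓ ^ b * m) t, mul_nsmul', Cons51.nsmul_id_eq_zero hk, smul_zero]
  let w : F ⟶ E := v ≫ Abelian.factorThruImage φ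
  have hw : w ≫ Abelian.image.ι φ = v := by
    simp only [w, Category.assoc, Abelian.image.fac, φ, Preadditive.comp_nsmul, Category.comp_id]
    have h1 : ℓ ^ a • v = 0 := by
      rw [← Category.id_comp v, ← Preadditive.nsmul_comp, Cons51.nsmul_id_eq_zero ha, zero_comp]
    exact (nsmul_eq_nsmul_iff_modEq.2 (hε1.of_dvd (addOrderOf_dvd_iff_nsmul_eq_zero.2 h1))).trans (one_nsmul v)
  have : Mono (w ≫ Abelian.image.ι φ) := by rw [hw]; exact hv
  have hwm : Mono w := mono_of_mono w (Abelian.image.ι φ)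
  have hwx : x.comp (Ext.mk₀ w) (add_zero _) = 0 := by
    have h1 : w = v ≫ Abelian.factorThruImage φ := rfl
    rw [h1, ← Ext.mk₀_comp_mk₀, ← Ext.comp_assoc_of_third_deg_zero]
    exact (congrArg (fun z => Ext.comp z (Ext.mk₀ (Abelian.factorThruImage φ)) (add_zero _)) hvx).trans
      (Ext.zero_comp _ _ _ _ _)
  let S : ShortComplex (EtCoh.Ab X) := ShortComplex.mk w (cokernel.π w) (cokernel.condition w)
  have hS : S.ShortExact := ShortComplex.ShortExact.mk' (ShortComplex.exact_cokernel _) hwm inferInstance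
  have hQ : EtAcyc.IsLTorsion {ℓ} S.X₃ := EtTor93.isLTorsion_of_epi (cokernel.π w) hE
  obtain ⟨c, hc⟩ := Ext.covariant_sequence_exact₁ _ hS x hwx (n₀ := i) rfl
  have hc0 : (EtCore.Hpull h S.X₃ i c).comp (hS.map_of_exact (EtCoh.pull h)).extClass rfl = 0 :=
    (GalCoh84.Hpull_extClass h hS rfl c).symm.trans ((congrArg (EtCore.Hpull h S.X₁ (i + 1)) hc).trans hx)
  obtain ⟨z, hz⟩ := Ext.covariant_sequence_exact₃ _ (hS.map_of_exact (EtCoh.pull h)) _ rfl hc0
  obtain ⟨z, rfl⟩ := hsurj E hE z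
  obtain rfl : c = z.comp (Ext.mk₀ S.g) (add_zero i) :=
    hinj _ hQ (hz.symm.trans (GalCoh84.Hpull_naturality h S.g i z).symm)
  refine hc.symm.trans ((Ext.comp_assoc_of_second_deg_zero _ _ _ _).trans ?_)
  exact (congrArg (fun t => Ext.comp z t rfl) hS.comp_extClass).trans (Ext.comp_zero _ _ _ _ _)

theorem all_degrees : ∀ i, (i ≤ n + 1 → Inj h ℓ i) ∧ (i ≤ n → Surj h ℓ i) := by
  intro i
  induction i with
  | zero => exact ⟨fun _ => inj_zero hℓ hb, fun hi => surj_step hℓ hb hi (inj_zero hℓ hb) fun j hj => by omega⟩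
  | succ i ih =>
    have hinj : i + 1 ≤ n + 1 → Inj h ℓ (i + 1) := fun hi =>
      inj_step hℓ (ih.1 (by omega)) (ih.2 (by omega))
    refine ⟨hinj, fun hi => surj_step hℓ hb hi (hinj (by omega)) fun j hj => ?_⟩
    obtain rfl : j = i := by omega
    exact ih.2 (by omega)

end Groth.Agent.Comp51
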