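import Groth.Agent.Comp51.BCSquare
import Groth.Agent.GalCoh84.Cohom
import Groth.Agent.S0161
import Groth.Agent.S3054

/-!
Pullback on cohomology commutes with direct images along finite morphisms.
-/

set_option autoImplicit false
set_option backward.isDefEq.respectTransparency.types false
set_option linter.style.haveILetI false
universe u

open CategoryTheory CategoryTheory.Limits AlgebraicGeometry Opposite CategoryTheory.Abelian
open Groth.Agent.Unr55.EtSh

namespace Groth.Agent.Comp51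

variable {X Y Z : Scheme.{u}}

theorem Hpull_Hpull (f : X ⟶ Y) (g : Y ⟶ Z) [PreservesFiniteLimits (EtCoh.pull f)]
    [PreservesFiniteLimits (EtCoh.pull g)] [PreservesFiniteLimits (EtCoh.pull (f ≫ g))] :
    ∃ θ : EtCoh.const X ℤ ≅ EtCoh.const X ℤ, ∀ (G : EtCoh.Ab Z) (n : ℕ) (e : EtCoh.H Z G n),
      EtCore.Hpull f ((EtCoh.pull g).obj G) n (EtCore.Hpull g G n e) =
        ((Ext.mk₀ θ.hom).comp (EtCore.Hpull (f ≫ g) G n e) (zero_add n)).comp
          (Ext.mk₀ ((EtCore.pullComp f g).hom.app G)) (add_zero n) := by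
  let θ : EtCoh.const X ℤ ≅ EtCoh.const X ℤ :=
    (EtCore.pullConst f ℤ).symm ≪≫ (EtCoh.pull f).mapIso (EtCore.pullConst g ℤ).symm ≪≫
      ((EtCore.pullComp f g).app (EtCoh.const Z ℤ)).symm ≪≫ EtCore.pullConst (f ≫ g) ℤ
  refine ⟨θ, fun G n e => ?_⟩
  let ι := (EtCore.pullComp f g).app G
  have hn := EtCore45.MV.mapExt_natural (EtCoh.pull g) (EtCoh.pull f) (EtCoh.pull (f ≫ g))
    (EtCore.pullComp f g).inv n e
  replace hn := congrArg (fun z => Ext.comp z (Ext.mk₀ ι.hom) (add_zero n)) hn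
  simp only [Ext.comp_assoc_of_third_deg_zero, Ext.mk₀_comp_mk₀] at hn
  rw [show (EtCore.pullComp f g).inv.app G ≫ ι.hom = 𝟙 _ from (EtCore.pullComp f g).inv_hom_id_app G] at hn
  replace hn := (Ext.comp_mk₀_id _).symm.trans hn
  change (Ext.mk₀ (EtCore.pullConst f ℤ).inv).comp
      (((Ext.mk₀ (EtCore.pullConst g ℤ).inv).comp (e.mapExactFunctor (EtCoh.pull g)) (zero_add n)).mapExactFunctor
        (EtCoh.pull f)) (zero_add n) =
    ((Ext.mk₀ θ.hom).comp ((Ext.mk₀ (EtCore.pullConst (f ≫ g) ℤ).inv).comp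
      (e.mapExactFunctor (EtCoh.pull (f ≫ g))) (zero_add n)) (zero_add n)).comp (Ext.mk₀ ι.hom) (add_zero n)
  rw [Ext.mapExactFunctor_comp, Ext.mapExactFunctor_mk₀, hn]
  simp [θ, Ext.comp_assoc_of_third_deg_zero, Ext.mk₀_comp_mk₀_assoc]

theorem Hpull_pullCongr {f f' : X ⟶ Y} (w : f = f') [PreservesFiniteLimits (EtCoh.pull f)]
    [PreservesFiniteLimits (EtCoh.pull f')] :
    ∃ θ : EtCoh.const X ℤ ≅ EtCoh.const X ℤ, ∀ (G : EtCoh.Ab Y) (n : ℕ) (e : EtCoh.H Y G n),
      (EtCore.Hpull f G n e).comp (Ext.mk₀ ((EtCore.pullCongr w).hom.app G)) (add_zero n) =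
        (Ext.mk₀ θ.hom).comp (EtCore.Hpull f' G n e) (zero_add n) := by
  subst w
  refine ⟨Iso.refl _, fun G n e => ?_⟩
  rw [show (EtCore.pullCongr (rfl : f = f)).hom.app G = 𝟙 _ from by simp [EtCore.pullCongr]]
  exact (Ext.comp_mk₀_id _).trans (Ext.mk₀_id_comp _).symm

variable {X' Y' : Scheme.{u}} (p : X' ⟶ X) (h : Y ⟶ X) (p' : Y' ⟶ Y) (h' : Y' ⟶ X')
  [PreservesFiniteLimits (EtCoh.pull h)] [PreservesFiniteLimits (EtCoh.pull h')]

/-- Pullback on cohomology and direct image along a finite morphism. -/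
theorem exists_Hpull_push [IsFinite p] (sq : IsPullback h' p' p h) (C : EtCoh.Ab X') (n : ℕ) :
    ∃ (Φ : EtCoh.H X ((EtCoh.push p).obj C) n → EtCoh.H X' C n)
      (Ψ : EtCoh.H Y ((EtCoh.pull h).obj ((EtCoh.push p).obj C)) n → EtCoh.H Y' ((EtCoh.pull h').obj C) n),
      Function.Bijective Φ ∧ Function.Bijective Ψ ∧
      ∀ x, EtCore.Hpull h' C n (Φ x) = Ψ (EtCore.Hpull h ((EtCoh.push p).obj C) n x) := by
  have : IsFinite p' := MorphismProperty.of_isPullback sq inferInstance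
  have := EtCore45.isIso_baseChange0_finite p h p' h' sq C
  have hpl : ∀ {A B : Scheme.{u}} (f : A ⟶ B), PreservesFiniteLimits (EtCoh.pull f) :=
    fun f => Unr55.EtSh.preservesFiniteLimits_pull f
  have := hpl p
  have := hpl p'
  have := hpl (h' ≫ p)
  have := hpl (p' ≫ h)
  have : (EtCoh.push p).Additive := (EtCoh.pullPushAdj p).right_adjoint_additive
  have : (EtCoh.push p').Additive := (EtCoh.pullPushAdj p').right_adjoint_additive
  let β := asIso (EtCoh.baseChange0 p h p' h' sq.w C)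
  obtain ⟨θ1, h1⟩ := Hpull_Hpull h' p
  obtain ⟨θ2, h2⟩ := Hpull_Hpull p' h
  obtain ⟨θc, hc⟩ := Hpull_pullCongr sq.w (X := Y')
  let θ := θ1 ≪≫ θc ≪≫ θ2.symm
  let T := EtCore45.adjTransfer (EtCoh.pullPushAdj p) (EtCore.pullConst p ℤ).inv C n
  let T' := EtCore45.adjTransfer (EtCoh.pullPushAdj p') (EtCore.pullConst p' ℤ).inv ((EtCoh.pull h').obj C) n
  have hT : Function.Bijective T := EtCore45.adjTransfer_bijective (EtCoh.pullPushAdj p) _ n C
    fun q hq => S3054.result p _ q hq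
  have hT' : Function.Bijective T' := EtCore45.adjTransfer_bijective (EtCoh.pullPushAdj p') _ n _
    fun q hq => S3054.result p' _ q hq
  refine ⟨T, fun z => (Ext.mk₀ θ.hom).comp (T' (z.comp (Ext.mk₀ β.hom) (add_zero n))) (zero_add n), hT, ?_, fun x => ?_⟩
  · have hsand := Henz21.EtAcycComp.bijective_sandwich θ (Iso.refl ((EtCoh.pull h').obj C)) n
    have hb := Henz21.EtAcycComp.bijective_sandwich (Iso.refl (EtCoh.const Y ℤ)) β n
    simp only [Iso.refl_hom, Ext.mk₀_id_comp] at hb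
    simp only [Iso.refl_hom, Ext.comp_mk₀_id] at hsand
    exact hsand.comp (hT'.comp hb)
  · have hTdef : T x = (EtCore.Hpull p ((EtCoh.push p).obj C) n x).comp
        (Ext.mk₀ ((EtCoh.pullPushAdj p).counit.app C)) (add_zero n) := rfl
    have hT'def : ∀ z, T' z = (EtCore.Hpull p' ((EtCoh.push p').obj ((EtCoh.pull h').obj C)) n z).comp
        (Ext.mk₀ ((EtCoh.pullPushAdj p').counit.app ((EtCoh.pull h').obj C))) (add_zero n) := fun z => rfl
    show _ = (Ext.mk₀ θ.hom).comp (T' _) (zero_add n)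
    rw [hTdef, GalCoh84.Hpull_naturality, h1, hT'def, GalCoh84.Hpull_naturality, h2]
    simp only [Ext.comp_assoc_of_third_deg_zero, Ext.mk₀_comp_mk₀]
    rw [pullComp_counit p h p' h' sq.w C, ← Ext.mk₀_comp_mk₀, ← Category.assoc]
    rw [← Ext.comp_assoc_of_third_deg_zero (EtCore.Hpull (h' ≫ p) _ n x), hc]
    simp [θ, β, Ext.comp_assoc_of_third_deg_zero, Ext.mk₀_comp_mk₀_assoc]

end Groth.Agent.Comp51
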